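import Mathlib
import Cfsg.Agent.LargeEx.Structure
import Cfsg.Agent.Components.Basic
import Cfsg.Agent.Transfer.Focal
import Cfsg.Agent.PGroup.Basic

/-!
A four-group acting on a perfect group with all fixed-point subgroups of 2-rank one.
-/

set_option autoImplicit false
set_option linter.unusedSectionVars false

namespace CfsgLib.FourGroupRankOne

open scoped commutatorElement

variable {G : Type*} [Group G] [Finite G]

/-- `S` is a 2-subgroup normalized by the four-group `U`, and involutions of `S` fixed by an element of `U`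
which commute are equal. -/
structure Ctx (U S : Subgroup G) (z : G) : Prop where
  hU : ∀ u ∈ U, u * u = 1
  hS : IsPGroup 2 S
  hUS : U ≤ Subgroup.normalizer (S : Set G)
  hpair : ∃ u ∈ U, ∃ v ∈ U, u ≠ 1 ∧ v ≠ 1 ∧ u ≠ v
  hone : ∀ u ∈ U, u ≠ 1 → ∀ a ∈ S, ∀ b ∈ S, a * a = 1 → b * b = 1 → a ≠ 1 → b ≠ 1 → u * a = a * u →
    u * b = b * u → a * b = b * a → a = b
  hzS : z ∈ S
  hz1 : z ≠ 1
  hzz : z * z = 1
  hzc : ∀ t ∈ S ⊔ U, t * z = z * t

variable {U S : Subgroup G} {z : G}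

theorem mem_cases {a b c : G} (hb : b * b = 1) (hc : c * c = 1) (hbc : b * c = c * b)
    (ha : a ∈ Subgroup.closure ({b, c} : Set G)) : a = 1 ∨ a = b ∨ a = c ∨ a = b * c := by
  let K : Subgroup G :=
    { carrier := {x | x = 1 ∨ x = b ∨ x = c ∨ x = b * c}
      one_mem' := Or.inl rfl
      mul_mem' := by
        intro x y hx hy
        have e1 : c * b = b * c := hbc.symm
        have e2 : c * (b * c) = b := by rw [← mul_assoc, ← hbc, mul_assoc, hc, mul_one]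
        have e3 : b * (b * c) = c := by rw [← mul_assoc, hb, one_mul]
        simp only [Set.mem_setOf_eq] at hx hy ⊢
        rcases hx with hx | hx | hx | hx <;> rcases hy with hy | hy | hy | hy <;> rw [hx, hy] <;>
          simp [hb, hc, mul_assoc, e1, e2, e3]
      inv_mem' := by
        intro x hx
        simp only [Set.mem_setOf_eq] at hx ⊢
        rcases hx with hx | hx | hx | hx <;> rw [hx]
        · simp
        · exact Or.inr (Or.inl (inv_eq_of_mul_eq_one_right hb))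
        · exact Or.inr (Or.inr (Or.inl (inv_eq_of_mul_eq_one_right hc)))
        · refine Or.inr (Or.inr (Or.inr ?_))
          rw [mul_inv_rev, inv_eq_of_mul_eq_one_right hb, inv_eq_of_mul_eq_one_right hc, hbc] }
  have hle : Subgroup.closure ({b, c} : Set G) ≤ K := by
    rw [Subgroup.closure_le]
    intro x hx
    rcases hx with hx | hx
    · exact Or.inr (Or.inl hx)
    · exact Or.inr (Or.inr (Or.inl hx))
  exact hle ha

theorem fixed_eq (h : Ctx U S z) {u v : G} (hu : u ∈ U) (hu1 : u ≠ 1) (hv : v ∈ S) (hvv : v * v = 1)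
    (hfix : u * v = v * u) : v = 1 ∨ v = z := by
  by_cases hv1 : v = 1
  · exact Or.inl hv1
  exact Or.inr (h.hone u hu hu1 v hv z h.hzS hvv h.hzz hv1 h.hz1 hfix (h.hzc u (Subgroup.mem_sup_right hu))
    (h.hzc v (Subgroup.mem_sup_left hv)))

/-- No involution other than `z` is sent by all of `U` to itself or to its product with `z`. -/
theorem core (h : Ctx U S z) {v : G} (hv : v ∈ S) (hvv : v * v = 1) (hv1 : v ≠ 1)
    (hmove : ∀ u ∈ U, u * v * u⁻¹ = v ∨ u * v * u⁻¹ = v * z) : v = z := by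
  obtain ⟨u, hu, w, hw, hu1, hw1, huw⟩ := h.hpair
  have fix : ∀ x ∈ U, x ≠ 1 → x * v * x⁻¹ = v → v = z := fun x hx hx1 e =>
    (fixed_eq h hx hx1 hv hvv (mul_inv_eq_iff_eq_mul.1 e)).resolve_left hv1
  rcases hmove u hu with e | e
  · exact fix u hu hu1 e
  rcases hmove w hw with e' | e'
  · exact fix w hw hw1 e'
  refine fix (u * w) (mul_mem hu hw) (fun h1 => huw ?_) ?_
  · rw [← inv_eq_of_mul_eq_one_right (h.hU u hu)]
    exact inv_eq_of_mul_eq_one_right h1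
  · have hz' : u * z * u⁻¹ = z := by rw [h.hzc u (Subgroup.mem_sup_right hu), mul_inv_cancel_right]
    rw [show u * w * v * (u * w)⁻¹ = u * (w * v * w⁻¹) * u⁻¹ by group, e',
      show u * (v * z) * u⁻¹ = (u * v * u⁻¹) * (u * z * u⁻¹) by group, e, hz', mul_assoc, h.hzz, mul_one]

theorem unique_in_abelian (h : Ctx U S z) {X : Subgroup G} (hXS : X ≤ S) (hab : ∀ a ∈ X, ∀ b ∈ X, a * b = b * a)
    (hinv : ∀ u ∈ U, ∀ a ∈ X, u * a * u⁻¹ ∈ X) {v : G} (hv : v ∈ X) (hvv : v * v = 1) (hv1 : v ≠ 1) : v = z := by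
  refine core h (hXS hv) hvv hv1 fun u hu => ?_
  by_cases hu1 : u = 1
  · left; subst hu1; group
  set v' := u * v * u⁻¹ with hv'
  have hv'v : v' * v' = 1 := by
    rw [show v' * v' = u * (v * v) * u⁻¹ by rw [hv']; group, hvv, mul_one, mul_inv_cancel]
  have hc : v * v' = v' * v := hab _ hv _ (hinv u hu v hv)
  have hinvv : v⁻¹ = v := inv_eq_of_mul_eq_one_right hvv
  have hui : u⁻¹ = u := inv_eq_of_mul_eq_one_right (h.hU u hu)
  have hw : v * v' * (v * v') = 1 := by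
    rw [mul_assoc, ← mul_assoc v' v v', ← hc, mul_assoc v v' v', hv'v, mul_one, hvv]
  have hfix : u * (v * v') = v * v' * u := by
    have e : u * v' * u⁻¹ = v := by
      rw [hv', show u * (u * v * u⁻¹) * u⁻¹ = (u * u) * v * (u * u)⁻¹ by group, h.hU u hu]; group
    rw [← mul_inv_eq_iff_eq_mul, show u * (v * v') * u⁻¹ = (u * v * u⁻¹) * (u * v' * u⁻¹) by group, e, ← hv', hc]
  rcases fixed_eq h hu hu1 (hXS (X.mul_mem hv (hinv u hu v hv))) hw hfix with e | e
  · left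
    show v' = v
    exact (inv_eq_of_mul_eq_one_right e).symm.trans hinvv
  · right
    rw [← e, ← mul_assoc, hvv, one_mul]

theorem sq_of_mem_zpowers {x a : G} {N : ℕ} (hN : orderOf x = 2 * N) (ha : a ∈ Subgroup.zpowers x)
    (haa : a * a = 1) : a = 1 ∨ a = x ^ N := by
  obtain ⟨k, rfl⟩ := Subgroup.mem_zpowers_iff.1 ha
  have h2 : ((2 * N : ℕ) : ℤ) ∣ k + k := by
    rw [← hN, orderOf_dvd_iff_zpow_eq_one, zpow_add]
    exact haa
  push_cast at h2
  obtain ⟨m, hm⟩ := h2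
  obtain ⟨r, hr⟩ : (N : ℤ) ∣ k := ⟨m, by linarith⟩
  have hxN : x ^ (N : ℤ) = x ^ N := zpow_natCast x N
  rcases Int.even_or_odd r with ⟨s, hs⟩ | ⟨s, hs⟩
  · left
    rw [hr, hs, show (N : ℤ) * (s + s) = ((2 * N : ℕ) : ℤ) * s by push_cast; ring, zpow_mul, zpow_natCast, ← hN,
      pow_orderOf_eq_one, one_zpow]
  · right
    rw [hr, hs, show (N : ℤ) * (2 * s + 1) = ((2 * N : ℕ) : ℤ) * s + N by push_cast; ring, zpow_add, zpow_mul,
      zpow_natCast, ← hN, pow_orderOf_eq_one, one_zpow, one_mul, hxN]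

/-- A maximal abelian subgroup invariant under `S` and `U` is cyclic and self-centralizing. -/
theorem exists_cyclic (h : Ctx U S z) : ∃ x ∈ S, z ∈ Subgroup.zpowers x ∧
    (∀ t ∈ S ⊔ U, ∀ a ∈ Subgroup.zpowers x, t * a * t⁻¹ ∈ Subgroup.zpowers x) ∧
    (∀ s ∈ S, s * x = x * s → s ∈ Subgroup.zpowers x) := by
  classical
  haveI : Fact (Nat.Prime 2) := ⟨Nat.prime_two⟩
  obtain ⟨X, hX⟩ := (Set.toFinite {X : Subgroup G | X ≤ S ∧ z ∈ X ∧ (∀ a ∈ X, ∀ b ∈ X, a * b = b * a) ∧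
    ∀ t ∈ S ⊔ U, ∀ a ∈ X, t * a * t⁻¹ ∈ X}).exists_maximal ⟨Subgroup.zpowers z, Subgroup.zpowers_le.2 h.hzS,
      Subgroup.mem_zpowers z, fun a ha b hb => by
        obtain ⟨i, rfl⟩ := Subgroup.mem_zpowers_iff.1 ha
        obtain ⟨j, rfl⟩ := Subgroup.mem_zpowers_iff.1 hb
        exact (Commute.refl z).zpow_zpow i j, fun t ht a ha => by
        obtain ⟨i, rfl⟩ := Subgroup.mem_zpowers_iff.1 ha
        rw [((show Commute t z from h.hzc t ht).zpow_right i).eq, mul_inv_cancel_right]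
        exact ⟨i, rfl⟩⟩
  obtain ⟨hXS, hzX, hXab, hXinv⟩ := hX.prop
  -- self-centralizing
  have hself : ∀ s ∈ S, (∀ a ∈ X, s * a = a * s) → s ∈ X := by
    by_contra hcon
    push Not at hcon
    obtain ⟨s, hsS, hsc, hsX⟩ := hcon
    set T := S ⊔ U with hT
    set C : Subgroup G := S ⊓ Subgroup.centralizer (X : Set G) with hC
    have hXC : X ≤ C := le_inf hXS fun a ha => Subgroup.mem_centralizer_iff.2 fun b hb => hXab b hb a ha
    have hTS : ∀ t ∈ T, ∀ a ∈ S, t * a * t⁻¹ ∈ S := fun t ht a ha =>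
      (Subgroup.mem_normalizer_iff.1 ((sup_le Subgroup.le_normalizer h.hUS : T ≤ _) ht) a).1 ha
    have hTC : ∀ t ∈ T, ∀ a ∈ C, t * a * t⁻¹ ∈ C := fun t ht a ha => by
      refine ⟨hTS t ht a ha.1, Subgroup.mem_centralizer_iff.2 fun b hb => ?_⟩
      have h1 := Subgroup.mem_centralizer_iff.1 ha.2 _ (hXinv t⁻¹ (inv_mem ht) b hb)
      rw [inv_inv] at h1
      calc b * (t * a * t⁻¹) = t * ((t⁻¹ * b * t) * a) * t⁻¹ := by group
        _ = t * (a * (t⁻¹ * b * t)) * t⁻¹ := by rw [h1]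
        _ = t * a * t⁻¹ * b := by group
    have hTp : IsPGroup 2 T := h.hS.to_sup_of_normal_left'
      (fun u => ⟨1, Subtype.ext (by rw [pow_one, pow_two]; exact h.hU u u.2)⟩) h.hUS
    haveI : (X.subgroupOf T).Normal := ⟨fun n hn g => hXinv g g.2 n hn⟩
    haveI : (C.subgroupOf T).Normal := ⟨fun n hn g => hTC g g.2 n hn⟩
    have hlt : X.subgroupOf T < C.subgroupOf T := by
      refine lt_of_le_not_ge (Subgroup.comap_mono hXC) fun hle => hsX ?_
      exact hle (show (⟨s, Subgroup.mem_sup_left hsS⟩ : T) ∈ C.subgroupOf T from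
        ⟨hsS, Subgroup.mem_centralizer_iff.2 fun b hb => (hsc b hb).symm⟩)
    obtain ⟨⟨c, hcT⟩, hcC, hcX, hc⟩ := PGroup.exists_mem_central_mod hTp hlt
    have hcc : ∀ a ∈ X, c * a = a * c := fun a ha => (Subgroup.mem_centralizer_iff.1 hcC.2 a ha).symm
    set Y := X ⊔ Subgroup.zpowers c with hY
    have hYle : Y ≤ Subgroup.centralizer (X : Set G) :=
      sup_le (hXC.trans inf_le_right) (Subgroup.zpowers_le.2 hcC.2)
    have hYY : Y ≤ Subgroup.centralizer (Y : Set G) := by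
      refine sup_le (fun a ha => Subgroup.mem_centralizer_iff.2 fun b hb =>
        (Subgroup.mem_centralizer_iff.1 (hYle hb) a ha).symm) (Subgroup.zpowers_le.2 ?_)
      have : Y ≤ Subgroup.centralizer ({c} : Set G) := sup_le
        (fun a ha => Subgroup.mem_centralizer_singleton_iff.2 (hcc a ha).symm)
        (Subgroup.zpowers_le.2 (Subgroup.mem_centralizer_singleton_iff.2 rfl))
      exact Subgroup.mem_centralizer_iff.2 fun b hb => Subgroup.mem_centralizer_singleton_iff.1 (this hb)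
    have hconj : ∀ t ∈ T, t * c * t⁻¹ ∈ Y := fun t ht => by
      have h1 : ⁅c, t⁆ ∈ X := hc ⟨t, ht⟩
      rw [show t * c * t⁻¹ = ⁅c, t⁆⁻¹ * c by rw [commutatorElement_def]; group]
      exact Y.mul_mem (Subgroup.mem_sup_left (inv_mem h1)) (Subgroup.mem_sup_right (Subgroup.mem_zpowers c))
    have hYmem : Y ≤ S ∧ z ∈ Y ∧ (∀ a ∈ Y, ∀ b ∈ Y, a * b = b * a) ∧ ∀ t ∈ T, ∀ a ∈ Y, t * a * t⁻¹ ∈ Y := by
      refine ⟨sup_le hXS (Subgroup.zpowers_le.2 hcC.1), Subgroup.mem_sup_left hzX,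
        fun a ha b hb => (Subgroup.mem_centralizer_iff.1 (hYY ha) b hb).symm, fun t ht a ha => ?_⟩
      have hle : Y ≤ Y.comap (MulAut.conj t).toMonoidHom :=
        sup_le (fun b hb => Subgroup.mem_sup_left (hXinv t ht b hb)) (Subgroup.zpowers_le.2 (hconj t ht))
      exact hle ha
    exact hcX (hX.le_of_ge hYmem le_sup_left (Subgroup.mem_sup_right (Subgroup.mem_zpowers c)))
  -- cyclic
  obtain ⟨x, hxX, hxmax⟩ := Set.exists_max_image (X : Set G) orderOf (Set.toFinite _) ⟨1, one_mem _⟩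
  have huniq : ∀ v ∈ X, v * v = 1 → v ≠ 1 → v = z := fun v hv =>
    unique_in_abelian h hXS hXab (fun u hu a ha => hXinv u (Subgroup.mem_sup_right hu) a ha) hv
  have hpow : ∀ a ∈ X, ∃ k : ℕ, orderOf a = 2 ^ k := fun a ha => by
    obtain ⟨k, hk⟩ := IsPGroup.iff_orderOf.1 h.hS ⟨a, hXS ha⟩
    exact ⟨k, by rw [← hk, Subgroup.orderOf_mk]⟩
  have hzx : z ∈ Subgroup.zpowers x := by
    obtain ⟨k, hk⟩ := hpow x hxX
    rcases k with _ | k
    · have h1 := hxmax z hzX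
      rw [hk, pow_zero] at h1
      exact absurd (orderOf_eq_one_iff.1 (le_antisymm h1 (orderOf_pos z))) h.hz1
    · have hne : x ^ 2 ^ k ≠ 1 := fun e => by
        have := Nat.le_of_dvd (by positivity) (orderOf_dvd_of_pow_eq_one e)
        rw [hk, pow_succ] at this
        have := Nat.two_pow_pos k
        omega
      have hz' := huniq (x ^ 2 ^ k) (pow_mem hxX _)
        (by rw [← pow_add, ← two_mul, ← pow_succ', ← hk, pow_orderOf_eq_one]) hne
      exact hz' ▸ pow_mem (Subgroup.mem_zpowers x) _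
  have hall : ∀ a ∈ X, a ∈ Subgroup.zpowers x := by
    by_contra hcon
    push Not at hcon
    obtain ⟨a, ha, hax⟩ := hcon
    -- the last power of `a` outside
    obtain ⟨k, hk⟩ := hpow a ha
    have hex : ∃ j, a ^ 2 ^ j ∈ Subgroup.zpowers x := ⟨k, by rw [← hk, pow_orderOf_eq_one]; exact one_mem _⟩
    obtain ⟨j, hj⟩ : ∃ j, Nat.find hex = j + 1 := Nat.exists_eq_succ_of_ne_zero fun e => hax (by
      have := Nat.find_spec hex
      rwa [e, pow_zero, pow_one] at this)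
    set b := a ^ 2 ^ j with hb
    have hbX : b ∈ X := pow_mem ha _
    have hbx : b ∉ Subgroup.zpowers x := Nat.find_min hex (by omega)
    have hb2 : b * b ∈ Subgroup.zpowers x := by
      have := Nat.find_spec hex
      rwa [hj, pow_succ, mul_two, pow_add] at this
    obtain ⟨i, hi⟩ := Subgroup.mem_zpowers_iff.1 hb2
    rcases Int.even_or_odd i with ⟨r, hr⟩ | ⟨r, hr⟩
    · set v := b * (x ^ r)⁻¹ with hv
      have hc : Commute b (x ^ r)⁻¹ := hXab _ hbX _ (inv_mem (zpow_mem hxX r))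
      have hvv : v * v = 1 := by
        rw [hv, hc.symm.mul_mul_mul_comm, ← hi, hr, zpow_add]; group
      have hvx : v ∉ Subgroup.zpowers x := fun e => hbx (by
        have := mul_mem e (zpow_mem (Subgroup.mem_zpowers x) r)
        rwa [hv, inv_mul_cancel_right] at this)
      exact hvx ((huniq v (mul_mem hbX (inv_mem (zpow_mem hxX r))) hvv
        (fun e => hvx (e ▸ one_mem _))) ▸ hzx)
    · obtain ⟨n, hn⟩ := hpow x hxX
      obtain ⟨m, hm⟩ := hpow b hbX
      have h1 : orderOf (b * b) = orderOf x := by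
        rw [← hi]
        refine Nat.dvd_antisymm (orderOf_dvd_of_mem_zpowers ⟨i, rfl⟩) ?_
        have hco : IsCoprime i ((2 : ℤ) ^ n) := by
          refine IsCoprime.pow_right ?_
          exact ⟨1, -r, by rw [hr]; ring⟩
        obtain ⟨p, q, hpq⟩ := hco
        refine orderOf_dvd_of_mem_zpowers ⟨p, ?_⟩
        show (x ^ i) ^ p = x
        have hx2 : x ^ ((2 : ℤ) ^ n) = 1 := by
          rw [show ((2 : ℤ) ^ n) = ((2 ^ n : ℕ) : ℤ) by push_cast; rfl, zpow_natCast, ← hn, pow_orderOf_eq_one]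
        calc (x ^ i) ^ p = x ^ (i * p) * (x ^ ((2 : ℤ) ^ n)) ^ q := by rw [hx2, one_zpow, mul_one, zpow_mul]
          _ = x ^ (p * i + q * (2 : ℤ) ^ n) := by rw [← zpow_mul, ← zpow_add]; ring_nf
          _ = x := by rw [hpq, zpow_one]
      have hb1 : b ≠ 1 := fun e => hbx (e ▸ one_mem _)
      have hm0 : m ≠ 0 := fun e => hb1 (orderOf_eq_one_iff.1 (by rw [hm, e, pow_zero]))
      have h2 : orderOf (b * b) = 2 ^ (m - 1) := by
        rw [← pow_two, orderOf_pow' b two_ne_zero, hm]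
        obtain ⟨m', rfl⟩ := Nat.exists_eq_succ_of_ne_zero hm0
        rw [pow_succ, Nat.gcd_mul_left_left, Nat.mul_div_cancel _ two_pos, Nat.succ_sub_one]
      have h3 := hxmax b hbX
      rw [h1] at h2
      rw [hm, h2] at h3
      have h4 : 2 ^ (m - 1) < 2 ^ m := Nat.pow_lt_pow_right (by norm_num) (by omega)
      omega
  have hXx : X = Subgroup.zpowers x := le_antisymm hall (Subgroup.zpowers_le.2 hxX)
  refine ⟨x, hXS hxX, hzx, hXx ▸ hXinv, fun s hs hsx => hXx ▸ hself s hs fun a ha => ?_⟩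
  obtain ⟨i, rfl⟩ := Subgroup.mem_zpowers_iff.1 (hall a ha)
  exact ((show Commute s x from hsx).zpow_right i).eq

/-- The shape of `S` when it has more than one involution. -/
theorem shape (h : Ctx U S z) (hne : ∃ v ∈ S, v * v = 1 ∧ v ≠ 1 ∧ v ≠ z) :
    ∃ x c : G, x ∈ S ∧ c ∈ Subgroup.zpowers x ∧ c * c = z ∧
      (∀ t ∈ S ⊔ U, ∀ a ∈ Subgroup.zpowers x, t * a * t⁻¹ ∈ Subgroup.zpowers x) ∧
      (∀ a ∈ Subgroup.zpowers x, a * a = 1 → a = 1 ∨ a = z) ∧
      (∀ s ∈ S, ∀ s' ∈ S, s ∉ Subgroup.zpowers x → s' ∉ Subgroup.zpowers x → s⁻¹ * s' ∈ Subgroup.zpowers x) ∧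
      (∀ s ∈ S, s ∉ Subgroup.zpowers x → s * c * s⁻¹ = c⁻¹) ∧
      (∀ y ∈ S, y * y = 1 → y ∉ Subgroup.zpowers x → ∀ a ∈ S, a * y = y * a →
        a = 1 ∨ a = z ∨ a = y ∨ a = z * y) ∧
      ∃ u ∈ U, u ≠ 1 ∧ u * c = c * u ∧
        ∀ y ∈ S, y * y = 1 → y ∉ Subgroup.zpowers x → u * y * u⁻¹ = z * y := by
  classical
  haveI : Fact (Nat.Prime 2) := ⟨Nat.prime_two⟩
  obtain ⟨x, hxS, hzx, hinv, hself⟩ := exists_cyclic h
  set X := Subgroup.zpowers x with hX
  have hXS : X ≤ S := Subgroup.zpowers_le.2 hxS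
  have hXab : ∀ a ∈ X, ∀ b ∈ X, a * b = b * a := by
    intro a ha b hb
    obtain ⟨i, rfl⟩ := Subgroup.mem_zpowers_iff.1 ha
    obtain ⟨j, rfl⟩ := Subgroup.mem_zpowers_iff.1 hb
    exact (Commute.refl x).zpow_zpow i j
  have huniq : ∀ a ∈ X, a * a = 1 → a = 1 ∨ a = z := fun a ha haa => (em (a = 1)).imp_right fun h1 =>
    unique_in_abelian h hXS hXab (fun u hu b hb => hinv u (Subgroup.mem_sup_right hu) b hb) ha haa h1
  obtain ⟨n, hn⟩ : ∃ n : ℕ, orderOf x = 2 ^ n := by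
    obtain ⟨k, hk⟩ := IsPGroup.iff_orderOf.1 h.hS ⟨x, hxS⟩
    exact ⟨k, by rw [← hk, Subgroup.orderOf_mk]⟩
  have hn2 : 2 ≤ n := by
    by_contra hlt
    have hxx : x * x = 1 := by
      rw [← pow_two]
      exact orderOf_dvd_iff_pow_eq_one.1 (hn ▸ (pow_dvd_pow 2 (by omega : n ≤ 1)).trans (by simp))
    obtain ⟨v, hv, hvv, hv1, hvz⟩ := hne
    refine hvz ((huniq v (hself v hv ?_) hvv).resolve_left hv1)
    rcases huniq x (Subgroup.mem_zpowers x) hxx with e | e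
    · rw [e, mul_one, one_mul]
    · rw [e]; exact h.hzc v (Subgroup.mem_sup_left hv)
  obtain ⟨m, rfl⟩ : ∃ m, n = m + 2 := ⟨n - 2, by omega⟩
  set c := x ^ 2 ^ m with hc
  have hcX : c ∈ X := pow_mem (Subgroup.mem_zpowers x) _
  have hcc : c * c = z := by
    have he : c * c = x ^ 2 ^ (m + 1) := by rw [hc, ← pow_add, pow_succ, mul_two]
    have hne1 : c * c ≠ 1 := fun e => by
      rw [he] at e
      have := Nat.le_of_dvd (by positivity) (orderOf_dvd_of_pow_eq_one e)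
      rw [hn] at this
      have := Nat.pow_lt_pow_right (show 1 < 2 by norm_num) (show m + 1 < m + 2 by omega)
      omega
    refine (huniq _ (mul_mem hcX hcX) ?_).resolve_left hne1
    rw [he, ← pow_add, ← mul_two, ← pow_succ, ← hn, pow_orderOf_eq_one]
  -- elements of square `z`
  have horder4 : ∀ a ∈ X, a * a = z → a = c ∨ a = c⁻¹ := by
    intro a ha haz
    have hac : Commute a c⁻¹ := hXab a ha _ (inv_mem hcX)
    have h1 : a * c⁻¹ * (a * c⁻¹) = 1 := by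
      rw [hac.symm.mul_mul_mul_comm, haz, ← hcc]; group
    rcases huniq _ (mul_mem ha (inv_mem hcX)) h1 with e | e
    · exact Or.inl (mul_inv_eq_one.1 e)
    · refine Or.inr ?_
      rw [mul_inv_eq_iff_eq_mul] at e
      rw [e, ← hcc, eq_inv_iff_mul_eq_one]
      calc c * c * c * c = (c * c) * (c * c) := by group
        _ = 1 := by rw [hcc, h.hzz]
  have hactc : ∀ t ∈ S ⊔ U, t * c * t⁻¹ = c ∨ t * c * t⁻¹ = c⁻¹ := fun t ht =>
    horder4 _ (hinv t ht c hcX) (by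
      rw [show t * c * t⁻¹ * (t * c * t⁻¹) = t * (c * c) * t⁻¹ by group, hcc, h.hzc t ht, mul_inv_cancel_right])
  -- the action on `X`
  have hact : ∀ t ∈ S ⊔ U, ∃ a : ℤ, t * x * t⁻¹ = x ^ a := fun t ht => by
    obtain ⟨a, ha⟩ := Subgroup.mem_zpowers_iff.1 (hinv t ht x (Subgroup.mem_zpowers x))
    exact ⟨a, ha.symm⟩
  have hxpow : ∀ (t : G) (a : ℤ), t * x * t⁻¹ = x ^ a → ∀ k : ℤ, t * x ^ k * t⁻¹ = x ^ (a * k) := fun t a ha k => by
    rw [zpow_mul, ← ha, conj_zpow]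
  have hzero : ∀ k : ℤ, x ^ k = 1 ↔ (2 : ℤ) ^ (m + 2) ∣ k := fun k => by
    rw [← orderOf_dvd_iff_zpow_eq_one, hn]; push_cast; rfl
  have hxeq : ∀ i j : ℤ, x ^ i = x ^ j → (2 : ℤ) ^ (m + 2) ∣ i - j := fun i j e => by
    rw [← hzero, zpow_sub, e, mul_inv_cancel]
  have hcz : c = x ^ ((2 : ℤ) ^ m) := by
    rw [hc, show ((2 : ℤ) ^ m) = ((2 ^ m : ℕ) : ℤ) by push_cast; rfl, zpow_natCast]
  have hc' : c⁻¹ ≠ c := fun e => h.hz1 (by rw [← hcc]; nth_rw 1 [← e]; exact inv_mul_cancel c)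
  have hfixc : ∀ (t : G) (a : ℤ), t * x * t⁻¹ = x ^ a → t * c * t⁻¹ = c → (4 : ℤ) ∣ a - 1 := fun t a ha e => by
    rw [hcz, hxpow t a ha] at e
    have h1 := hxeq _ _ e
    rw [show a * (2 : ℤ) ^ m - 2 ^ m = 2 ^ m * (a - 1) by ring, pow_add] at h1
    exact Int.dvd_of_mul_dvd_mul_left (pow_ne_zero m (by norm_num : (2 : ℤ) ≠ 0)) h1
  -- `C_S(c) = X`
  have hCc : ∀ s ∈ S, s * c * s⁻¹ = c → s ∈ X := by
    by_contra hcon
    push Not at hcon
    obtain ⟨s0, hs0S, hs0c, hs0X⟩ := hcon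
    set T := S ⊔ U with hT
    set C : Subgroup G := S ⊓ Subgroup.centralizer ({c} : Set G) with hC
    have hXC : X ≤ C := le_inf hXS fun a ha => Subgroup.mem_centralizer_singleton_iff.2 (hXab a ha c hcX)
    have hTS : ∀ t ∈ T, ∀ a ∈ S, t * a * t⁻¹ ∈ S := fun t ht a ha =>
      (Subgroup.mem_normalizer_iff.1 ((sup_le Subgroup.le_normalizer h.hUS : T ≤ _) ht) a).1 ha
    have hTC : ∀ t ∈ T, ∀ a ∈ C, t * a * t⁻¹ ∈ C := fun t ht a ha => by
      refine ⟨hTS t ht a ha.1, Subgroup.mem_centralizer_singleton_iff.2 ?_⟩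
      have hac : a * c = c * a := Subgroup.mem_centralizer_singleton_iff.1 ha.2
      have hac' : a * c⁻¹ = c⁻¹ * a := (Commute.inv_right hac).eq
      rcases hactc t⁻¹ (inv_mem ht) with e | e <;> rw [inv_inv] at e
      · calc t * a * t⁻¹ * c = t * (a * (t⁻¹ * c * t)) * t⁻¹ := by group
          _ = t * ((t⁻¹ * c * t) * a) * t⁻¹ := by rw [e, hac]
          _ = c * (t * a * t⁻¹) := by group
      · calc t * a * t⁻¹ * c = t * (a * (t⁻¹ * c * t)) * t⁻¹ := by group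
          _ = t * ((t⁻¹ * c * t) * a) * t⁻¹ := by rw [e, hac']
          _ = c * (t * a * t⁻¹) := by group
    have hTp : IsPGroup 2 T := h.hS.to_sup_of_normal_left'
      (fun u => ⟨1, Subtype.ext (by rw [pow_one, pow_two]; exact h.hU u u.2)⟩) h.hUS
    haveI : (X.subgroupOf T).Normal := ⟨fun b hb g => hinv g g.2 b hb⟩
    haveI : (C.subgroupOf T).Normal := ⟨fun b hb g => hTC g g.2 b hb⟩
    have hlt : X.subgroupOf T < C.subgroupOf T := by
      refine lt_of_le_not_ge (Subgroup.comap_mono hXC) fun hle => hs0X ?_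
      exact hle (show (⟨s0, Subgroup.mem_sup_left hs0S⟩ : T) ∈ C.subgroupOf T from
        ⟨hs0S, Subgroup.mem_centralizer_singleton_iff.2 (mul_inv_eq_iff_eq_mul.1 hs0c)⟩)
    obtain ⟨⟨s1, hs1T⟩, hs1C, hs1X, hs1c⟩ := PGroup.exists_mem_central_mod hTp hlt
    replace hs1C : s1 ∈ C := hs1C
    obtain ⟨k, hk⟩ := IsPGroup.iff_orderOf.1 h.hS ⟨s1, hs1C.1⟩
    rw [Subgroup.orderOf_mk] at hk
    have hex : ∃ j, s1 ^ 2 ^ j ∈ X := ⟨k, by rw [← hk, pow_orderOf_eq_one]; exact one_mem _⟩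
    obtain ⟨j, hj⟩ : ∃ j, Nat.find hex = j + 1 := Nat.exists_eq_succ_of_ne_zero fun e => hs1X (by
      have := Nat.find_spec hex
      rw [e, pow_zero, pow_one] at this
      exact this)
    set s := s1 ^ 2 ^ j with hs
    have hsX : s ∉ X := Nat.find_min hex (by omega)
    have hs2 : s * s ∈ X := by
      have := Nat.find_spec hex
      rwa [hj, pow_succ, mul_two, pow_add] at this
    have hsS : s ∈ S := pow_mem hs1C.1 _
    have hsc : s * c * s⁻¹ = c :=
      mul_inv_eq_iff_eq_mul.2 ((show Commute s1 c from Subgroup.mem_centralizer_singleton_iff.1 hs1C.2).pow_left _).eq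
    have hsmove : ∀ t ∈ T, s⁻¹ * (t * s * t⁻¹) ∈ X := by
      intro t ht
      have key : ∀ i : ℕ, (s1 ^ i)⁻¹ * (t * s1 ^ i * t⁻¹) ∈ X := by
        intro i
        induction i with
        | zero => simp [X.one_mem]
        | succ i ih =>
          have h1 : ⁅s1, t⁆ ∈ X := hs1c ⟨t, ht⟩
          have h3 : s1⁻¹ * (t * s1 * t⁻¹) ∈ X := by
            rw [show s1⁻¹ * (t * s1 * t⁻¹) = s1⁻¹ * ⁅s1, t⁆⁻¹ * s1 by rw [commutatorElement_def]; group]
            have := hinv s1⁻¹ (inv_mem (Subgroup.mem_sup_left hs1C.1)) _ (inv_mem h1)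
            rwa [inv_inv] at this
          rw [pow_succ, show (s1 ^ i * s1)⁻¹ * (t * (s1 ^ i * s1) * t⁻¹) =
            (s1⁻¹ * ((s1 ^ i)⁻¹ * (t * s1 ^ i * t⁻¹)) * s1) * (s1⁻¹ * (t * s1 * t⁻¹)) by group]
          refine mul_mem ?_ h3
          have := hinv s1⁻¹ (inv_mem (Subgroup.mem_sup_left hs1C.1)) _ ih
          rwa [inv_inv] at this
      exact key (2 ^ j)
    obtain ⟨a, ha⟩ := hact s (Subgroup.mem_sup_left hsS)
    obtain ⟨b, hb⟩ := hfixc s a ha hsc
    obtain ⟨i, hi⟩ := Subgroup.mem_zpowers_iff.1 hs2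
    -- `a² ≡ 1`
    have haa : (2 : ℤ) ^ (m + 2) ∣ a * a - 1 := by
      refine hxeq _ _ ?_
      rw [zpow_one, ← hxpow s a ha a, ← ha, show s * (s * x * s⁻¹) * s⁻¹ = (s * s) * x * (s * s)⁻¹ by group,
        hXab _ hs2 x (Subgroup.mem_zpowers x), mul_inv_cancel_right]
    have hne' : ¬ (2 : ℤ) ^ (m + 2) ∣ a - 1 := fun hd => hsX (hself s hsS (by
      rw [← hzero, zpow_sub, zpow_one, ← ha, mul_inv_eq_one] at hd
      exact mul_inv_eq_iff_eq_mul.1 hd))
    have hodd1 : ∀ r : ℤ, IsCoprime (2 * r + 1) ((2 : ℤ) ^ (m + 2)) := fun r =>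
      IsCoprime.pow_right ⟨1, -r, by ring⟩
    have ha1 : (2 : ℤ) ^ (m + 1) ∣ a - 1 := by
      rw [show a * a - 1 = 2 * ((a - 1) * (2 * b + 1)) by rw [show a = 4 * b + 1 by linarith]; ring,
        pow_succ' (2 : ℤ) (m + 1)] at haa
      exact ((hodd1 b).symm.of_isCoprime_of_dvd_left (pow_dvd_pow 2 (by omega))).dvd_of_dvd_mul_right
        (Int.dvd_of_mul_dvd_mul_left two_ne_zero haa)
    have hieven : ∃ r, i = 2 * r := by
      have h1 : (2 : ℤ) ^ (m + 2) ∣ a * i - i := hxeq _ _ (by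
        rw [← hxpow s a ha i, hi]; group)
      rcases Int.even_or_odd i with ⟨r, hr⟩ | ⟨r, hr⟩
      · exact ⟨r, by linarith⟩
      · exfalso
        apply hne'
        rw [show a * i - i = (a - 1) * (2 * r + 1) by rw [hr]; ring] at h1
        exact (hodd1 r).symm.dvd_of_dvd_mul_right h1
    obtain ⟨r, rfl⟩ := hieven
    obtain ⟨p, q, hpq⟩ := hodd1 b
    -- the involution `x^e s`
    set e : ℤ := -(r * p) with he
    set y := x ^ e * s with hy
    have hyy : y * y = 1 := by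
      have e1 : y * y = x ^ e * (s * x ^ e * s⁻¹) * (s * s) := by rw [hy]; group
      rw [e1, hxpow s a ha e, ← hi, ← zpow_add, ← zpow_add, hzero]
      refine ⟨2 * r * q, ?_⟩
      have : a = 4 * b + 1 := by linarith
      rw [he, this]
      linear_combination (-2 * r) * hpq
    have hyX : y ∉ X := fun h1 => hsX (by
      have := mul_mem (inv_mem (zpow_mem (Subgroup.mem_zpowers x) e)) h1
      rwa [hy, inv_mul_cancel_left] at this)
    have hyS : y ∈ S := mul_mem (hXS (zpow_mem (Subgroup.mem_zpowers x) e)) hsS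
    refine hyX ((core h hyS hyy (fun h1 => hyX (h1 ▸ one_mem _)) fun u hu => ?_) ▸ hzx)
    set w := y⁻¹ * (u * y * u⁻¹) with hw
    have hwX : w ∈ X := by
      have h1 : u * x ^ e * u⁻¹ ∈ X := hinv u (Subgroup.mem_sup_right hu) _ (zpow_mem (Subgroup.mem_zpowers x) e)
      rw [hw, hy, show (x ^ e * s)⁻¹ * (u * (x ^ e * s) * u⁻¹) =
        (s⁻¹ * ((x ^ e)⁻¹ * (u * x ^ e * u⁻¹)) * s) * (s⁻¹ * (u * s * u⁻¹)) by group]
      refine mul_mem ?_ (hsmove u (Subgroup.mem_sup_right hu))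
      have h2 := hinv s⁻¹ (inv_mem (Subgroup.mem_sup_left hsS)) _
        (mul_mem (inv_mem (zpow_mem (Subgroup.mem_zpowers x) e)) h1)
      rwa [inv_inv] at h2
    obtain ⟨k, hk⟩ := Subgroup.mem_zpowers_iff.1 hwX
    have hyk : u * y * u⁻¹ = y * x ^ k := by rw [hk, hw, mul_inv_cancel_left]
    have hsq : y * x ^ k * (y * x ^ k) = 1 := by
      rw [← hyk, show u * y * u⁻¹ * (u * y * u⁻¹) = u * (y * y) * u⁻¹ by group, hyy]; group
    have hyx : y * x * y⁻¹ = x ^ a := by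
      rw [hy, show x ^ e * s * x * (x ^ e * s)⁻¹ = x ^ e * (s * x * s⁻¹) * x ^ (-e) by group, ha, ← zpow_add,
        ← zpow_add]
      ring_nf
    have h2k : (2 : ℤ) ^ (m + 2) ∣ k + k := by
      have h1 : x ^ (a * k) * x ^ k = 1 := by
        rw [← hxpow y a hyx k, inv_eq_of_mul_eq_one_right hyy, mul_assoc]
        rw [mul_assoc] at hsq ⊢
        exact hsq
      rw [← zpow_add, hzero, show a * k + k = (k + k) * (2 * b + 1) by
        rw [show a = 4 * b + 1 by linarith]; ring] at h1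
      exact (hodd1 b).symm.dvd_of_dvd_mul_right h1
    rw [← hzero, zpow_add] at h2k
    rcases huniq _ (zpow_mem (Subgroup.mem_zpowers x) k) h2k with e' | e'
    · left; rw [hyk, e', mul_one]
    · right; rw [hyk, e']
  have hflip : ∀ s ∈ S, s ∉ X → s * c * s⁻¹ = c⁻¹ := fun s hs hsX =>
    (hactc s (Subgroup.mem_sup_left hs)).resolve_left fun e => hsX (hCc s hs e)
  have hindex : ∀ s ∈ S, ∀ s' ∈ S, s ∉ X → s' ∉ X → s⁻¹ * s' ∈ X := fun s hs s' hs' h1 h2 =>
    hCc _ (mul_mem (inv_mem hs) hs') (by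
      rw [show s⁻¹ * s' * c * (s⁻¹ * s')⁻¹ = s⁻¹ * (s' * c * s'⁻¹) * s by group, hflip s' hs' h2,
        ← hflip s hs h1]
      group)
  -- centralizers of outer involutions
  have hcent : ∀ y ∈ S, y * y = 1 → y ∉ X → ∀ a ∈ S, a * y = y * a → a = 1 ∨ a = z ∨ a = y ∨ a = z * y := by
    intro y hy hyy hyX a ha hay
    have inX : ∀ b ∈ X, b * y = y * b → b = 1 ∨ b = z := by
      intro b hb hby
      obtain ⟨a', ha'⟩ := hact y (Subgroup.mem_sup_left hy)
      have hne' : ¬ (4 : ℤ) ∣ a' - 1 := fun ⟨d, hd⟩ => hc' (by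
        rw [← hflip y hy hyX, hcz, hxpow y a' ha', show a' = 4 * d + 1 by linarith,
          show (4 * d + 1) * (2 : ℤ) ^ m = 2 ^ m + 2 ^ (m + 2) * d by ring, zpow_add,
          (hzero _).2 (dvd_mul_right _ _), mul_one])
      have hnodd : ∃ r, a' - 1 = 2 * (2 * r + 1) := by
        have h1 : (2 : ℤ) ∣ a' - 1 := by
          have h2 := hflip y hy hyX
          rw [hcz, hxpow y a' ha', ← zpow_neg] at h2
          have h3 := hxeq _ _ h2
          rw [show a' * (2 : ℤ) ^ m - -2 ^ m = 2 ^ m * (a' - 1 + 2) by ring, pow_add] at h3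
          have h4 : (2 : ℤ) ^ 2 ∣ a' - 1 + 2 := Int.dvd_of_mul_dvd_mul_left (by positivity) h3
          obtain ⟨d, hd⟩ := h4
          exact ⟨2 * d - 1, by linarith⟩
        obtain ⟨d, hd⟩ := h1
        rcases Int.even_or_odd d with ⟨r, hr⟩ | ⟨r, hr⟩
        · exact absurd ⟨r, by rw [hd, hr]; ring⟩ hne'
        · exact ⟨r, by rw [hd, hr]⟩
      obtain ⟨r, hr⟩ := hnodd
      obtain ⟨k, rfl⟩ := Subgroup.mem_zpowers_iff.1 hb
      refine huniq _ hb ?_
      rw [← zpow_add, hzero]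
      have h1 := hxeq _ _ (show x ^ (a' * k) = x ^ k by rw [← hxpow y a' ha', ← hby, mul_inv_cancel_right])
      rw [show a' * k - k = (k + k) * (2 * r + 1) by rw [show a' = 2 * (2 * r + 1) + 1 by linarith]; ring] at h1
      exact (IsCoprime.pow_right ⟨1, -r, by ring⟩ : IsCoprime (2 * r + 1) ((2 : ℤ) ^ (m + 2))).symm.dvd_of_dvd_mul_right h1
    by_cases haX : a ∈ X
    · rcases inX a haX hay with e | e
      · exact Or.inl e
      · exact Or.inr (Or.inl e)
    · have h1 : y * a ∈ X := by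
        have := hindex y hy a ha hyX haX
        rwa [inv_eq_of_mul_eq_one_right hyy] at this
      have hya : y * (y * a) = a := by rw [← mul_assoc, hyy, one_mul]
      rcases inX _ h1 (by rw [mul_assoc, hay]) with e | e
      · exact Or.inr (Or.inr (Or.inl (by rw [← hya, e, mul_one])))
      · refine Or.inr (Or.inr (Or.inr ?_))
        rw [← hya, e, h.hzc y (Subgroup.mem_sup_left hy)]
  refine ⟨x, c, hxS, hcX, hcc, hinv, huniq, hindex, hflip, hcent, ?_⟩
  -- an element of `U` fixing `c`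
  obtain ⟨u, hu, hu1, huc⟩ : ∃ u ∈ U, u ≠ 1 ∧ u * c * u⁻¹ = c := by
    obtain ⟨u, hu, v, hv, hu1, hv1, huv⟩ := h.hpair
    rcases hactc u (Subgroup.mem_sup_right hu) with e | e
    · exact ⟨u, hu, hu1, e⟩
    rcases hactc v (Subgroup.mem_sup_right hv) with e' | e'
    · exact ⟨v, hv, hv1, e'⟩
    refine ⟨u * v, mul_mem hu hv, fun h1 => huv ?_, ?_⟩
    · rw [← inv_eq_of_mul_eq_one_right (h.hU u hu)]
      exact inv_eq_of_mul_eq_one_right h1
    · rw [show u * v * c * (u * v)⁻¹ = u * (v * c * v⁻¹) * u⁻¹ by group, e', show u * c⁻¹ * u⁻¹ = (u * c * u⁻¹)⁻¹ by group,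
        e, inv_inv]
  refine ⟨u, hu, hu1, mul_inv_eq_iff_eq_mul.1 huc, fun y hy hyy hyX => ?_⟩
  obtain ⟨a, ha⟩ := hact u (Subgroup.mem_sup_right hu)
  obtain ⟨d, hd⟩ := hfixc u a ha huc
  set y' := u * y * u⁻¹ with hy'
  have hy'S : y' ∈ S := (Subgroup.mem_normalizer_iff.1 (h.hUS hu) y).1 hy
  have hy'X : y' ∉ X := fun h1 => hyX (by
    have := hinv u⁻¹ (inv_mem (Subgroup.mem_sup_right hu)) y' h1
    rwa [hy', inv_inv, show u⁻¹ * (u * y * u⁻¹) * u = y by group] at this)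
  have hb : y' * y ∈ X := by
    have := hindex y' hy'S y hy hy'X hyX
    rwa [show y'⁻¹ = y' from inv_eq_of_mul_eq_one_right (by
      rw [hy', show u * y * u⁻¹ * (u * y * u⁻¹) = u * (y * y) * u⁻¹ by group, hyy]; group)] at this
  obtain ⟨b, hb'⟩ := Subgroup.mem_zpowers_iff.1 hb
  have h2b : x ^ b * x ^ b = 1 := by
    have h1 : x ^ (a * b) = (x ^ b)⁻¹ := by
      rw [← hxpow u a ha b, hb', hy', eq_inv_iff_mul_eq_one]
      calc u * (u * y * u⁻¹ * y) * u⁻¹ * (u * y * u⁻¹ * y)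
          = (u * u) * y * (u * u)⁻¹ * ((u * y * u⁻¹) * (u * y * u⁻¹)) * y := by group
        _ = y * (u * (y * y) * u⁻¹) * y := by rw [h.hU u hu]; group
        _ = 1 := by rw [hyy]; simpa using hyy
    rw [← mul_eq_one_iff_eq_inv, ← zpow_add, hzero, show a * b + b = (b + b) * (2 * d + 1) by
      rw [show a = 4 * d + 1 by linarith]; ring] at h1
    rw [← zpow_add, hzero]
    exact (IsCoprime.pow_right ⟨1, -d, by ring⟩ : IsCoprime (2 * d + 1) ((2 : ℤ) ^ (m + 2))).symm.dvd_of_dvd_mul_right h1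
  have hy'y : y' = x ^ b * y := by rw [hb', mul_assoc, hyy, mul_one]
  rcases huniq _ (zpow_mem (Subgroup.mem_zpowers x) b) h2b with e | e
  · exfalso
    rw [e, one_mul] at hy'y
    rcases fixed_eq h hu hu1 hy hyy (mul_inv_eq_iff_eq_mul.1 hy'y) with e' | e'
    · exact hyX (e' ▸ one_mem _)
    · exact hyX (e' ▸ hzx)
  · rw [hy'y, e]

/-- A four-group on a perfect group, all of whose fixed-point subgroups have 2-rank one. -/
theorem unique_involution (A U : Subgroup G) (hperf : commutator ↥A = ⊤) (hU : ∀ u ∈ U, u * u = 1)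
    (hpair : ∃ u ∈ U, ∃ v ∈ U, u ≠ 1 ∧ v ≠ 1 ∧ u ≠ v) (hUA : U ≤ Subgroup.normalizer (A : Set G))
    (hone : ∀ u ∈ U, u ≠ 1 → ∀ a ∈ A, ∀ b ∈ A, a * a = 1 → b * b = 1 → a ≠ 1 → b ≠ 1 → u * a = a * u →
      u * b = b * u → a * b = b * a → a = b) (S : Sylow 2 ↥A)
    (hUS : U ≤ Subgroup.normalizer (((S : Subgroup ↥A).map A.subtype : Subgroup G) : Set G))
    (hcap : ∀ x : ↥A, (x : G) ∈ U → x ∈ (S : Subgroup ↥A)) :
    ∀ a ∈ (S : Subgroup ↥A), ∀ b ∈ (S : Subgroup ↥A), a * a = 1 → b * b = 1 → a ≠ 1 → b ≠ 1 → a = b := by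
  classical
  haveI : Fact (Nat.Prime 2) := ⟨Nat.prime_two⟩
  intro a0 ha0 b0 hb0 ha0a hb0b ha01 hb01
  by_contra hab
  set S0 := (S : Subgroup ↥A).map A.subtype with hS0
  have hS0A : S0 ≤ A := Subgroup.map_subtype_le _
  have hS0p : IsPGroup 2 S0 := S.2.map _
  have hmemS : ∀ x : ↥A, x ∈ (S : Subgroup ↥A) ↔ (x : G) ∈ S0 := fun x =>
    (Subgroup.mem_map_iff_mem A.subtype_injective).symm
  set T := S0 ⊔ U with hT
  have hTp : IsPGroup 2 T := hS0p.to_sup_of_normal_left'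
    (fun u => ⟨1, Subtype.ext (by rw [pow_one, pow_two]; exact hU u u.2)⟩) hUS
  haveI hSn : (S0.subgroupOf T).Normal :=
    Subgroup.normal_subgroupOf_of_le_normalizer (sup_le Subgroup.le_normalizer hUS)
  have hbot : (⊥ : Subgroup T) < S0.subgroupOf T := by
    refine bot_lt_iff_ne_bot.2 fun hb => ha01 ?_
    have := (Subgroup.eq_bot_iff_forall _).1 hb ⟨(a0 : G), Subgroup.mem_sup_left ((hmemS a0).1 ha0)⟩ ((hmemS a0).1 ha0)
    exact Subtype.ext (congrArg Subtype.val this :)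
  obtain ⟨⟨z1, hz1T⟩, hz1S, hz1ne, hz1c⟩ := PGroup.exists_mem_central_mod hTp hbot
  have hz1c' : ∀ t ∈ T, Commute t z1 := fun t ht => by
    have := hz1c ⟨t, ht⟩
    rw [Subgroup.mem_bot, commutatorElement_eq_one_iff_mul_comm] at this
    exact (congrArg Subtype.val this).symm
  replace hz1S : z1 ∈ S0 := hz1S
  obtain ⟨k, hk⟩ := IsPGroup.iff_orderOf.1 hS0p ⟨z1, hz1S⟩
  rw [Subgroup.orderOf_mk] at hk
  have hz11 : z1 ≠ 1 := fun e => hz1ne (Subgroup.mem_bot.2 (Subtype.ext e))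
  obtain ⟨k', rfl⟩ : ∃ k', k = k' + 1 := Nat.exists_eq_succ_of_ne_zero fun e => hz11
    (orderOf_eq_one_iff.1 (by rw [hk, e, pow_zero]))
  set z := z1 ^ 2 ^ k' with hz
  have h : Ctx U S0 z := by
    refine ⟨hU, hS0p, hUS, hpair, fun u hu hu1 a ha b hb => hone u hu hu1 a (hS0A ha) b (hS0A hb), pow_mem hz1S _,
      fun e => ?_, ?_, fun t ht => ((hz1c' t ht).pow_right _).eq⟩
    · have := Nat.le_of_dvd (by positivity) (orderOf_dvd_of_pow_eq_one e)
      rw [hk, pow_succ] at this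
      have := Nat.two_pow_pos k'
      omega
    · rw [hz, ← pow_add, ← two_mul, ← pow_succ', ← hk, pow_orderOf_eq_one]
  have hne : ∃ v ∈ S0, v * v = 1 ∧ v ≠ 1 ∧ v ≠ z := by
    by_contra hcon
    push Not at hcon
    exact hab (Subtype.ext ((hcon a0 ((hmemS a0).1 ha0) (congrArg Subtype.val ha0a) fun e => ha01 (Subtype.ext e)).trans
      (hcon b0 ((hmemS b0).1 hb0) (congrArg Subtype.val hb0b) fun e => hb01 (Subtype.ext e)).symm))
  obtain ⟨x, c, hxS, hcX, hcc, hinv, huniq, hindex, hflip, hcent, u, hu, hu1, huc, hmove⟩ := shape h hne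
  set X := Subgroup.zpowers x with hX
  have hXS : X ≤ S0 := Subgroup.zpowers_le.2 hxS
  have hcS : c ∈ S0 := hXS hcX
  have hzX : z ∈ X := hcc ▸ mul_mem hcX hcX
  have houter : ∀ v ∈ S0, v * v = 1 → v ≠ 1 → v ≠ z → v ∉ X := fun v _ hvv hv1 hvz hvX =>
    (huniq v hvX hvv).elim hv1 hvz
  obtain ⟨v0, hv0S, hv0v, hv01, hv0z⟩ := hne
  have hv0X := houter v0 hv0S hv0v hv01 hv0z
  -- `u` is outside `A`
  have huA : u ∉ A := fun huA => by
    have huS : u ∈ S0 := (hmemS ⟨u, huA⟩).1 (hcap _ hu)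
    have huz : u = z := (fixed_eq h hu hu1 huS (hU u hu) rfl).resolve_left hu1
    exact hv0z ((fixed_eq h hu hu1 hv0S hv0v (huz.symm ▸ (h.hzc v0 (Subgroup.mem_sup_left hv0S)).symm)).resolve_left hv01)
  set w := u * c⁻¹ with hw
  have hucinv : u * c⁻¹ = c⁻¹ * u := (Commute.inv_right (show Commute u c from huc)).eq
  have hww : w * w = z := by
    rw [hw, hucinv, show c⁻¹ * u * (c⁻¹ * u) = c⁻¹ * (u * c⁻¹) * u by group, hucinv,
      show c⁻¹ * (c⁻¹ * u) * u = c⁻¹ * c⁻¹ * (u * u) by group, hU u hu, mul_one, ← mul_inv_rev, hcc]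
    exact inv_eq_of_mul_eq_one_right h.hzz
  have hwA : w ∉ A := fun e => huA (by
    have := mul_mem e (hS0A hcS)
    rwa [hw, inv_mul_cancel_right] at this)
  have hwz : w * z = z * w := ((show Commute u z from h.hzc u (Subgroup.mem_sup_right hu)).mul_left
    (show Commute c⁻¹ z from h.hzc c⁻¹ (Subgroup.mem_sup_left (inv_mem hcS)))).eq
  have hwy : ∀ y ∈ S0, y * y = 1 → y ∉ X → w * y = y * w := by
    intro y hy hyy hyX
    rw [← mul_inv_eq_iff_eq_mul, hw, show u * c⁻¹ * y * (u * c⁻¹)⁻¹ = u * (c⁻¹ * (y * c * y⁻¹) * y) * u⁻¹ by group,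
      hflip y hy hyX, ← mul_inv_rev c c, hcc, inv_eq_of_mul_eq_one_right h.hzz,
      show u * (z * y) * u⁻¹ = u * z * u⁻¹ * (u * y * u⁻¹) by group, hmove y hy hyy hyX,
      h.hzc u (Subgroup.mem_sup_right hu), mul_inv_cancel_right, ← mul_assoc, h.hzz, one_mul]
  -- transfer
  set MA := X.subgroupOf A with hMA
  have hMS : MA ≤ (S : Subgroup ↥A) := fun a ha => (hmemS a).2 (hXS ha)
  have hMrel : MA.relIndex (S : Subgroup ↥A) = 2 := by
    rw [Subgroup.relIndex, Subgroup.index_eq_two_iff]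
    refine ⟨⟨⟨v0, hS0A hv0S⟩, (hmemS _).2 hv0S⟩, fun b => ?_⟩
    rw [Subgroup.mem_subgroupOf, Subgroup.mem_subgroupOf]
    show Xor ((((b : ↥A) : G) * v0) ∈ X) (((b : ↥A) : G) ∈ X)
    by_cases hbX : ((b : ↥A) : G) ∈ X
    · exact Or.inr ⟨hbX, fun e => hv0X (by simpa using mul_mem (inv_mem hbX) e)⟩
    · refine Or.inl ⟨?_, hbX⟩
      have hbS := (hmemS b.1).1 b.2
      have := hindex _ (inv_mem hbS) v0 hv0S (fun e => hbX (by simpa using inv_mem e)) hv0X
      rwa [inv_inv] at this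
  obtain ⟨g0, hg0⟩ : ∃ g0 : ↥A, g0 * ⟨v0, hS0A hv0S⟩ * g0⁻¹ ∈ MA := by
    by_contra hcon
    push Not at hcon
    obtain ⟨N, hNn, hN2, hNt⟩ := CfsgLib.Transfer.thompson_transfer S hMS hMrel
      (t := (⟨v0, hS0A hv0S⟩ : ↥A)) (Subtype.ext hv0v) hcon
    haveI := hNn
    have hle : commutator ↥A ≤ N := by
      rw [commutator_def, Subgroup.commutator_le]
      intro a _ b _
      rw [← QuotientGroup.eq_one_iff, ← QuotientGroup.mk'_apply, map_commutatorElement,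
        commutatorElement_eq_one_iff_mul_comm]
      haveI : Fact (Nat.Prime 2) := ⟨Nat.prime_two⟩
      haveI : IsCyclic (↥A ⧸ N) := isCyclic_of_prime_card hN2
      exact IsCyclic.commGroup.mul_comm _ _
    rw [hperf] at hle
    exact hNt (hle (Subgroup.mem_top _))
  set g : G := (g0 : G) with hg
  have hgy : g * v0 * g⁻¹ = z := by
    refine (huniq _ hg0 ?_).resolve_left fun e => hv01 ?_
    · show g * v0 * g⁻¹ * (g * v0 * g⁻¹) = 1
      rw [show g * v0 * g⁻¹ * (g * v0 * g⁻¹) = g * (v0 * v0) * g⁻¹ by group, hv0v]; group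
    · calc v0 = g⁻¹ * (g * v0 * g⁻¹) * g := by group
        _ = 1 := by rw [show g * v0 * g⁻¹ = 1 from e]; group
  have hv0zc : v0 * z = z * v0 := h.hzc v0 (Subgroup.mem_sup_left hv0S)
  -- into `S`
  set zA : ↥A := ⟨z, hS0A h.hzS⟩ with hzA
  set C := Subgroup.centralizer ({zA} : Set ↥A) with hC
  have hSC : (S : Subgroup ↥A) ≤ C := fun s hs => Subgroup.mem_centralizer_singleton_iff.2
    (Subtype.ext (h.hzc _ (Subgroup.mem_sup_left ((hmemS s).1 hs))))
  set gz : ↥A := g0 * zA * g0⁻¹ with hgz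
  have hgzC : gz ∈ C := by
    refine Subgroup.mem_centralizer_singleton_iff.2 (Subtype.ext ?_)
    show g * z * g⁻¹ * z = z * (g * z * g⁻¹)
    calc g * z * g⁻¹ * z = g * z * g⁻¹ * (g * v0 * g⁻¹) := by rw [hgy]
      _ = g * (z * v0) * g⁻¹ := by group
      _ = g * (v0 * z) * g⁻¹ := by rw [hv0zc]
      _ = g * v0 * g⁻¹ * (g * z * g⁻¹) := by group
      _ = z * (g * z * g⁻¹) := by rw [hgy]
  have hgz2 : gz ^ 2 = 1 := Subtype.ext (by
    show (g * z * g⁻¹) ^ 2 = 1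
    rw [conj_pow, pow_two, h.hzz]; group)
  obtain ⟨R, hR⟩ := IsPGroup.exists_le_sylow (p := 2) (P := Subgroup.zpowers (⟨gz, hgzC⟩ : C))
    (fun y => by
      obtain ⟨_, i, rfl⟩ := y
      refine ⟨1, Subtype.ext (Subtype.ext ?_)⟩
      show (gz ^ i) ^ (2 ^ 1) = 1
      rw [pow_one, ← zpow_natCast, ← zpow_mul, mul_comm, zpow_mul, zpow_natCast, hgz2, one_zpow])
  obtain ⟨hh, hhR⟩ := MulAction.exists_smul_eq C R (S.subtype hSC)
  have hin : (hh : ↥A) * gz * (hh : ↥A)⁻¹ ∈ (S : Subgroup ↥A) := by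
    have h1 : hh * ⟨gz, hgzC⟩ * hh⁻¹ ∈ ((hh • R : Sylow 2 C) : Subgroup C) :=
      ⟨⟨gz, hgzC⟩, hR (Subgroup.mem_zpowers _), rfl⟩
    rw [hhR] at h1
    exact h1
  set g2 : G := ((hh : ↥A) : G) * g with hg2
  have hhz : ((hh : ↥A) : G) * z * ((hh : ↥A) : G)⁻¹ = z := mul_inv_eq_iff_eq_mul.2
    (congrArg Subtype.val (Subgroup.mem_centralizer_singleton_iff.1 hh.2))
  have hg2A : g2 ∈ A := mul_mem (hh : ↥A).2 g0.2
  have hg2y : g2 * v0 * g2⁻¹ = z := by
    rw [hg2, show ((hh : ↥A) : G) * g * v0 * (((hh : ↥A) : G) * g)⁻¹ =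
      ((hh : ↥A) : G) * (g * v0 * g⁻¹) * ((hh : ↥A) : G)⁻¹ by group, hgy, hhz]
  set y := g2 * z * g2⁻¹ with hy
  have hyS : y ∈ S0 := by
    have := (hmemS _).1 hin
    convert this using 1
    rw [hy, hg2, hgz]
    push_cast
    simp only [hzA, mul_inv_rev, mul_assoc]
    rfl
  have hyy : y * y = 1 := by rw [hy, show g2 * z * g2⁻¹ * (g2 * z * g2⁻¹) = g2 * (z * z) * g2⁻¹ by group, h.hzz]; group
  have hy1 : y ≠ 1 := fun e => h.hz1 (by
    calc z = g2⁻¹ * y * g2 := by rw [hy]; group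
      _ = 1 := by rw [e]; group)
  have hyz : y ≠ z := fun e => hv0z (by
    calc v0 = g2⁻¹ * (g2 * v0 * g2⁻¹) * g2 := by group
      _ = g2⁻¹ * y * g2 := by rw [hg2y, e]
      _ = z := by rw [hy]; group)
  have hyX := houter y hyS hyy hy1 hyz
  set w' := g2 * w * g2⁻¹ with hw'
  have hw'w : w' * w' = y := by rw [hw', hy, show g2 * w * g2⁻¹ * (g2 * w * g2⁻¹) = g2 * (w * w) * g2⁻¹ by group, hww]
  have hw'z : w' * z = z * w' := by
    rw [hw', ← hg2y]
    calc g2 * w * g2⁻¹ * (g2 * v0 * g2⁻¹) = g2 * (w * v0) * g2⁻¹ := by group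
      _ = g2 * (v0 * w) * g2⁻¹ := by rw [hwy v0 hv0S hv0v hv0X]
      _ = g2 * v0 * g2⁻¹ * (g2 * w * g2⁻¹) := by group
  have hw'y : w' * y = y * w' := by
    calc w' * y = w' * (w' * w') := by rw [hw'w]
      _ = w' * w' * w' := (mul_assoc _ _ _).symm
      _ = y * w' := by rw [hw'w]
  -- inside `(A ⊔ ⟨u⟩) ∩ C(z) ∩ C(y)`
  set B := A ⊔ Subgroup.zpowers u with hB
  have huN : Subgroup.zpowers u ≤ Subgroup.normalizer (A : Set G) := Subgroup.zpowers_le.2 (hUA hu)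
  have hcoset : ∀ b ∈ B, b ∉ A → ∃ a ∈ A, b = a * u := by
    intro b hb hbA
    obtain ⟨a, ha, e, he, rfl⟩ : ∃ a ∈ A, ∃ e ∈ Subgroup.zpowers u, a * e = b := by
      have h1 := (Subgroup.coe_mul_of_right_le_normalizer_left A (Subgroup.zpowers u) huN).le hb
      obtain ⟨a, ha, e, he, rfl⟩ := h1
      exact ⟨a, ha, e, he, rfl⟩
    obtain ⟨i, rfl⟩ := Subgroup.mem_zpowers_iff.1 he
    have h2 : u ^ (2 : ℤ) = 1 := by rw [show (2 : ℤ) = 1 + 1 from rfl, zpow_add, zpow_one, hU u hu]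
    rcases Int.even_or_odd i with ⟨r, hr⟩ | ⟨r, hr⟩
    · refine absurd ?_ hbA
      rw [hr, ← two_mul, zpow_mul, h2, one_zpow, mul_one]
      exact ha
    · exact ⟨a, ha, by rw [hr, zpow_add, zpow_mul, h2, one_zpow, one_mul, zpow_one]⟩
  set K : Subgroup G := B ⊓ Subgroup.centralizer ({z, y} : Set G) with hK
  have hcz : ∀ t : G, t * z = z * t → t * y = y * t → t ∈ Subgroup.centralizer ({z, y} : Set G) := fun t h1 h2 =>
    Subgroup.mem_centralizer_iff.2 (by rintro b (rfl | rfl) <;> [exact h1.symm; exact h2.symm])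
  have hwK : w ∈ K := ⟨mul_mem (Subgroup.mem_sup_right (Subgroup.mem_zpowers u))
    (Subgroup.mem_sup_left (inv_mem (hS0A hcS))), hcz w hwz (hwy y hyS hyy hyX)⟩
  have hw'K : w' ∈ K := ⟨mul_mem (mul_mem (Subgroup.mem_sup_left hg2A) hwK.1) (Subgroup.mem_sup_left (inv_mem hg2A)),
    hcz w' hw'z hw'y⟩
  have p2 : ∀ (t : K), t ^ 4 = 1 → IsPGroup 2 (Subgroup.zpowers t) := by
    intro t ht e
    obtain ⟨i, hi⟩ := Subgroup.mem_zpowers_iff.1 e.2
    refine ⟨2, Subtype.ext ?_⟩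
    show (e : K) ^ (2 ^ 2) = 1
    rw [← hi, ← zpow_natCast, ← zpow_mul, mul_comm, zpow_mul, zpow_natCast, show (2 : ℕ) ^ 2 = 4 from rfl, ht, one_zpow]
  have hw4 : (⟨w, hwK⟩ : K) ^ 4 = 1 := Subtype.ext (by
    show w ^ 4 = 1
    rw [show (4 : ℕ) = 2 + 2 from rfl, pow_add, pow_two, hww, h.hzz])
  have hw'4 : (⟨w', hw'K⟩ : K) ^ 4 = 1 := Subtype.ext (by
    show w' ^ 4 = 1
    rw [show (4 : ℕ) = 2 + 2 from rfl, pow_add, pow_two, hw'w, hyy])
  obtain ⟨R1, hR1⟩ := (p2 _ hw4).exists_le_sylow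
  obtain ⟨R2, hR2⟩ := (p2 _ hw'4).exists_le_sylow
  obtain ⟨k, hk⟩ := MulAction.exists_smul_eq K R2 R1
  have hw'' : k * ⟨w', hw'K⟩ * k⁻¹ ∈ (R1 : Subgroup K) := by
    rw [← hk]; exact ⟨⟨w', hw'K⟩, hR2 (Subgroup.mem_zpowers _), rfl⟩
  set r : K := ⟨w, hwK⟩⁻¹ * (k * ⟨w', hw'K⟩ * k⁻¹) with hr
  have hrR : r ∈ (R1 : Subgroup K) := mul_mem (inv_mem (hR1 (Subgroup.mem_zpowers _))) hw''
  have hkN : (k : G) ∈ Subgroup.normalizer (A : Set G) :=
    (sup_le Subgroup.le_normalizer huN : B ≤ Subgroup.normalizer (A : Set G)) k.2.1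
  have hrA : (r : G) ∈ A := by
    set wk := (k : G) * w' * (k : G)⁻¹ with hwk
    have hnot : wk ∉ A := fun e => hwA (by
      have h1 : w' ∈ A := by
        have := (Subgroup.mem_normalizer_iff.1 (inv_mem hkN) _).1 e
        rwa [hwk, inv_inv, show (k : G)⁻¹ * ((k : G) * w' * (k : G)⁻¹) * (k : G) = w' by group] at this
      have := mul_mem (mul_mem (inv_mem hg2A) h1) hg2A
      rwa [hw', show g2⁻¹ * (g2 * w * g2⁻¹) * g2 = w by group] at this)
    obtain ⟨a1, ha1, e1⟩ := hcoset _ (mul_mem (mul_mem k.2.1 hw'K.1) (inv_mem k.2.1)) hnot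
    obtain ⟨a2, ha2, e2⟩ := hcoset w hwK.1 hwA
    show w⁻¹ * wk ∈ A
    rw [hwk, e1, e2, show (a2 * u)⁻¹ * (a1 * u) = u⁻¹ * (a2⁻¹ * a1) * u by group]
    have := (Subgroup.mem_normalizer_iff.1 (inv_mem (hUA hu)) _).1 (mul_mem (inv_mem ha2) ha1)
    rwa [inv_inv] at this
  -- a 2-subgroup of `A` centralizing `z` and `y`
  set Q0 : Subgroup G := (R1 : Subgroup K).map K.subtype ⊓ A with hQ0
  set V : Subgroup G := Subgroup.closure ({z, y} : Set G) with hV
  have hzyc : z * y = y * z := (h.hzc y (Subgroup.mem_sup_left hyS)).symm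
  have hVS : V ≤ S0 := by
    rw [hV, Subgroup.closure_le]; rintro b (rfl | rfl) <;> [exact h.hzS; exact hyS]
  have hQc : Q0 ≤ Subgroup.centralizer ({z, y} : Set G) := fun q hq => by
    obtain ⟨q', -, rfl⟩ := hq.1
    exact q'.2.2
  have hQN : Q0 ≤ Subgroup.centralizer (V : Set G) := by
    rw [hV, Subgroup.centralizer_closure]; exact hQc
  have hQp : IsPGroup 2 (Q0 ⊔ V : Subgroup G) :=
    (IsPGroup.to_le (R1.2.map _) inf_le_left).to_sup_of_normal_right' (hS0p.to_le hVS)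
      (hQN.trans (Subgroup.centralizer_le_normalizer _))
  have hQA : Q0 ⊔ V ≤ A := sup_le inf_le_right (hVS.trans hS0A)
  obtain ⟨Q1, hQ1⟩ := (hQp.of_equiv (Subgroup.subgroupOfEquivOfLe hQA).symm).exists_le_sylow
  obtain ⟨a, ha⟩ := MulAction.exists_smul_eq ↥A Q1 S
  have htoS : ∀ q ∈ Q0 ⊔ V, (a : G) * q * (a : G)⁻¹ ∈ S0 := fun q hq => by
    have h1 : a * ⟨q, hQA hq⟩ * a⁻¹ ∈ (S : Subgroup ↥A) := by
      rw [← ha]; exact ⟨⟨q, hQA hq⟩, hQ1 hq, rfl⟩
    exact (hmemS _).1 h1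
  have hrQ : (r : G) ∈ Q0 := ⟨⟨r, hrR, rfl⟩, hrA⟩
  have hrc := Subgroup.mem_centralizer_iff.1 (hQc hrQ)
  have hrcases : (r : G) = 1 ∨ (r : G) = z ∨ (r : G) = y ∨ (r : G) = z * y := by
    set φ := MulAut.conj (a : G) with hφ
    have hzV : z ∈ Q0 ⊔ V := Subgroup.mem_sup_right (Subgroup.subset_closure (Or.inl rfl))
    have hyV : y ∈ Q0 ⊔ V := Subgroup.mem_sup_right (Subgroup.subset_closure (Or.inr rfl))
    have hz' : φ z ∈ S0 := htoS z hzV
    have hy' : φ y ∈ S0 := htoS y hyV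
    have hr' : φ (r : G) ∈ S0 := htoS _ (Subgroup.mem_sup_left hrQ)
    have hz'z : φ z * φ z = 1 := by rw [← map_mul, h.hzz, map_one]
    have hy'y : φ y * φ y = 1 := by rw [← map_mul, hyy, map_one]
    have hcomm : φ z * φ y = φ y * φ z := by rw [← map_mul, ← map_mul, hzyc]
    have hrz : φ (r : G) * φ z = φ z * φ (r : G) := by rw [← map_mul, ← map_mul, (hrc z (Or.inl rfl))]
    have hry : φ (r : G) * φ y = φ y * φ (r : G) := by rw [← map_mul, ← map_mul, (hrc y (Or.inr rfl))]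
    have hz'1 : φ z ≠ 1 := fun e => h.hz1 (φ.injective (e.trans (map_one φ).symm))
    have hy'1 : φ y ≠ 1 := fun e => hy1 (φ.injective (e.trans (map_one φ).symm))
    have hzy' : φ z ≠ φ y := fun e => hyz (φ.injective e).symm
    -- an outer involution `o` among the images, and `z` among them
    have hmain : ∃ o : G, o ∈ Subgroup.closure ({φ z, φ y} : Set G) ∧ o ∈ S0 ∧ o * o = 1 ∧ o ∉ X ∧
        φ (r : G) * o = o * φ (r : G) ∧ z ∈ Subgroup.closure ({φ z, φ y} : Set G) := by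
      by_cases hzz' : φ z = z
      · exact ⟨φ y, Subgroup.subset_closure (Or.inr rfl), hy', hy'y,
          houter _ hy' hy'y hy'1 (fun e => hzy' (hzz'.trans e.symm)), hry, by
            exact (congrArg (· ∈ Subgroup.closure ({φ z, φ y} : Set G)) hzz').mp (Subgroup.subset_closure (Or.inl rfl))⟩
      · have hz'X := houter _ hz' hz'z hz'1 hzz'
        refine ⟨φ z, Subgroup.subset_closure (Or.inl rfl), hz', hz'z, hz'X, hrz, ?_⟩
        rcases hcent _ hz' hz'z hz'X _ hy' hcomm.symm with e | e | e | e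
        · exact absurd e hy'1
        · rw [← e]; exact Subgroup.subset_closure (Or.inr rfl)
        · exact absurd e.symm hzy'
        · have h1 : z = φ y * φ z := by rw [e, mul_assoc, hz'z, mul_one]
          refine (congrArg (· ∈ Subgroup.closure ({φ z, φ y} : Set G)) h1).mpr ?_
          exact mul_mem (Subgroup.subset_closure (Or.inr rfl)) (Subgroup.subset_closure (Or.inl rfl))
    obtain ⟨o, hoV, hoS, hoo, hoX, hro, hzcl⟩ := hmain
    have hrcl : φ (r : G) ∈ Subgroup.closure ({φ z, φ y} : Set G) := by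
      rcases hcent o hoS hoo hoX _ hr' hro with e | e | e | e <;> rw [e]
      · exact one_mem _
      · exact hzcl
      · exact hoV
      · exact mul_mem hzcl hoV
    rcases mem_cases hz'z hy'y hcomm hrcl with e | e | e | e
    · exact Or.inl (φ.injective (e.trans (map_one φ).symm))
    · exact Or.inr (Or.inl (φ.injective e))
    · exact Or.inr (Or.inr (Or.inl (φ.injective e)))
    · exact Or.inr (Or.inr (Or.inr (φ.injective (e.trans (map_mul φ z y).symm))))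
  have hwr : w * (r : G) = (r : G) * w := by
    rcases hrcases with e | e | e | e <;> rw [e]
    · simp
    · exact hwz
    · exact hwy y hyS hyy hyX
    · exact ((show Commute w z from hwz).mul_right (hwy y hyS hyy hyX)).eq
  have hrr : (r : G) * (r : G) = 1 := by
    rcases hrcases with e | e | e | e <;> rw [e]
    · simp
    · exact h.hzz
    · exact hyy
    · rw [mul_assoc, ← mul_assoc y z y, ← hzyc, mul_assoc z y y, hyy, mul_one, h.hzz]
  have hfinal : (k : G) * w' * (k : G)⁻¹ = w * (r : G) := by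
    rw [hr]; push_cast; group
  have hky : (k : G) * y * (k : G)⁻¹ = y :=
    mul_inv_eq_iff_eq_mul.2 (Subgroup.mem_centralizer_iff.1 k.2.2 y (Or.inr rfl)).symm
  apply hyz
  calc y = (k : G) * y * (k : G)⁻¹ := hky.symm
    _ = ((k : G) * w' * (k : G)⁻¹) * ((k : G) * w' * (k : G)⁻¹) := by rw [← hw'w]; group
    _ = w * (r : G) * (w * (r : G)) := by rw [hfinal]
    _ = w * w * ((r : G) * (r : G)) := (show Commute (r : G) w from hwr.symm).mul_mul_mul_comm w r
    _ = z := by rw [hrr, hww, mul_one]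

end CfsgLib.FourGroupRankOne
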